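import Cfsg.Agent.H3.Fusion
import Cfsg.Agent.H3.PGroup1
import Cfsg.Agent.H1.Basic

/-! An abelian normal subgroup `⟨a⟩ × ⟨b⟩` of index `p` in a normal Sylow subgroup is homocyclic. -/

set_option autoImplicit false

namespace Cfsg.Agent.IS

open Subgroup

variable {G : Type*} [Group G] [Finite G] {p : ℕ} [Fact p.Prime]

namespace Sb2

omit [Finite G] in
theorem dec {a b : G} (ab : Commute a b) {c : G} (hc : c ∈ zpowers a ⊔ zpowers b) :
    ∃ m n : ℤ, c = a ^ m * b ^ n := by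
  rw [zpowers_eq_closure, zpowers_eq_closure, ← Subgroup.closure_union] at hc
  induction hc using closure_induction with
  | mem x hx =>
    rcases hx with rfl | rfl
    · exact ⟨1, 0, by simp⟩
    · exact ⟨0, 1, by simp⟩
  | one => exact ⟨0, 0, by simp⟩
  | mul x y _ _ hx hy =>
    obtain ⟨m, n, rfl⟩ := hx
    obtain ⟨k, l, rfl⟩ := hy
    exact ⟨m + k, n + l, by
      rw [zpow_add, zpow_add, (ab.zpow_zpow k n).symm.mul_mul_mul_comm]⟩
  | inv x _ hx =>
    obtain ⟨m, n, rfl⟩ := hx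
    exact ⟨-m, -n, by rw [mul_inv_rev, ← zpow_neg, ← zpow_neg, (ab.zpow_zpow (-m) (-n)).eq]⟩

omit [Finite G] in
theorem pw {a b : G} (ab : Commute a b) (m n : ℤ) (q : ℕ) :
    (a ^ m * b ^ n) ^ q = (a ^ q) ^ m * (b ^ q) ^ n := by
  rw [(ab.zpow_zpow m n).mul_pow, ← zpow_natCast, ← zpow_natCast, ← zpow_natCast, ← zpow_natCast,
    zpow_comm a, zpow_comm b]

theorem cd {A B : Type*} [Group A] [Group B] (f : A →* B) :
    Nat.card A = Nat.card f.ker * Nat.card f.range := by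
  rw [← index_ker, card_mul_index]

end Sb2

open Sb2 in
theorem eqord (P : Sylow p G) (_hn : (P : Subgroup G).Normal) (hc : (P : Subgroup G) ≤ commutator G)
    (C : Subgroup G) (nC : C.Normal) (CP : C ≤ P)
    (iC : Nat.card (P : Subgroup G) = p * Nat.card C) {a b : G} (ab : a * b = b * a)
    (i : zpowers a ⊓ zpowers b = ⊥) (s : zpowers a ⊔ zpowers b = C)
    (hZ : ∀ y ∈ (P : Subgroup G), y ^ p = 1 → (∀ g ∈ (P : Subgroup G), g * y = y * g) →
      y ∈ zpowers b)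
    (hb : ∀ g, ∃ y ∈ (P : Subgroup G), g * b * g⁻¹ = y * b * y⁻¹) :
    ∃ e, orderOf a = p ^ e ∧ orderOf b = p ^ e ∧ Nat.card (P : Subgroup G) = p ^ (2 * e + 1) := by
  have pp : p.Prime := Fact.out
  have ab' : Commute a b := ab
  have aC : a ∈ C := s ▸ mem_sup_left (mem_zpowers a)
  have bC : b ∈ C := s ▸ mem_sup_right (mem_zpowers b)
  obtain ⟨e, he⟩ := (IsPGroup.iff_orderOf.1 P.isPGroup') ⟨a, CP aC⟩
  obtain ⟨k, hk⟩ := (IsPGroup.iff_orderOf.1 P.isPGroup') ⟨b, CP bC⟩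
  rw [← orderOf_coe] at he hk
  change orderOf a = _ at he
  change orderOf b = _ at hk
  have dC : ∀ c ∈ C, ∃ m n : ℤ, c = a ^ m * b ^ n := fun c h => dec ab' (s ▸ h)
  have np : ∀ {y : G} {l : ℕ}, orderOf y = p ^ (l + 1) → y ^ p ^ l ≠ 1 := fun h =>
    pow_ne_one_of_lt_orderOf (pow_pos pp.pos _).ne' (h ▸ Nat.pow_lt_pow_right pp.one_lt (by omega))
  have kl : ∀ {y : G} {l l' : ℕ}, orderOf y = p ^ l → l ≤ l' → y ^ p ^ l' = 1 := fun h h' =>
    orderOf_dvd_iff_pow_eq_one.1 (h ▸ pow_dvd_pow p h')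
  rcases lt_trichotomy k e with h | rfl | h
  · exfalso
    obtain ⟨l, rfl⟩ : ∃ l, e = l + 1 := ⟨e - 1, by omega⟩
    have : (zpowers (a ^ p ^ l)).Normal := ⟨by
      rintro _ ⟨r, rfl⟩ g
      obtain ⟨m, n, e⟩ := dC _ (nC.conj_mem a aC g)
      show g * (a ^ p ^ l) ^ r * g⁻¹ ∈ _
      rw [← conj_zpow, ← conj_pow, e, pw ab', kl hk (by omega), one_zpow, mul_one]
      exact zpow_mem (zpow_mem (mem_zpowers _) _) _⟩
    have YP : zpowers (a ^ p ^ l) ≤ (P : Subgroup G) := zpowers_le.2 (pow_mem (CP aC) _)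
    have := H3.inf_center_ne_bot P.isPGroup'.isNilpotent
      ((zpowers (a ^ p ^ l)).subgroupOf P) (fun e => np he (by
        rw [subgroupOf_eq_bot, disjoint_iff, inf_of_le_left YP] at e
        exact zpowers_eq_bot.1 e))
    obtain ⟨⟨w, ⟨r, hr⟩, w2⟩, w1⟩ := ne_bot_iff_exists_ne_one.1 this
    have hr' : (a ^ p ^ l) ^ r = w := hr
    have := hZ w w.2 (by
      rw [← hr', ← zpow_natCast, zpow_comm, zpow_natCast, ← pow_mul, ← pow_succ, kl he le_rfl,
        one_zpow]) fun g hg => congrArg Subtype.val (mem_center_iff.1 w2 ⟨g, hg⟩)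
    have w0 : (w : G) ∈ zpowers a ⊓ zpowers b :=
      ⟨hr' ▸ zpow_mem (pow_mem (mem_zpowers a) _) _, this⟩
    rw [i] at w0
    exact w1 (Subtype.ext (Subtype.ext w0))
  · refine ⟨k, he, hk, ?_⟩
    have := H1.card_sup_mul_card_inf (N := zpowers a) (H := zpowers b) (zpowers_le.2
      (centralizer_le_normalizer _ (mem_centralizer_iff.2 fun _ ⟨r, hr⟩ =>
        hr ▸ (ab'.zpow_left r).eq)))
    rw [i, s, Nat.card_zpowers, Nat.card_zpowers, he, hk, card_bot, mul_one] at this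
    rw [iC, this]; ring
  · exfalso
    obtain ⟨l, rfl⟩ : ∃ l, k = l + 1 := ⟨k - 1, by omega⟩
    have cm : ∀ c ∈ C, ∀ d ∈ C, Commute c d := fun c hc d hd => by
      obtain ⟨m, n, rfl⟩ := dC c hc
      obtain ⟨m', n', rfl⟩ := dC d hd
      exact ((Commute.refl a).zpow_zpow _ _ |>.mul_right (ab'.zpow_zpow _ _)).mul_left
        ((ab'.symm.zpow_zpow _ _).mul_right ((Commute.refl b).zpow_zpow _ _))
    let f : C →* G := MonoidHom.mk' (fun c => (c : G) ^ p ^ l) fun c d =>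
      (cm _ c.2 _ d.2).mul_pow _
    have fr : f.range = zpowers (b ^ p ^ l) := by
      refine le_antisymm ?_ (zpowers_le.2 ⟨⟨b, bC⟩, rfl⟩)
      rintro _ ⟨c, rfl⟩
      obtain ⟨m, n, e⟩ := dC _ c.2
      show (c : G) ^ p ^ l ∈ _
      rw [e, pw ab', kl he (by omega), one_zpow, one_mul]
      exact zpow_mem (mem_zpowers _) _
    have cf := cd f
    rw [fr, Nat.card_zpowers, orderOf_eq_prime (by rw [← pow_mul, ← pow_succ, kl hk le_rfl])
      (np hk)] at cf
    let K := f.ker.map C.subtype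
    have mK : ∀ c, c ∈ K ↔ c ∈ C ∧ c ^ p ^ l = 1 := fun c =>
      ⟨fun ⟨d, h1, h2⟩ => h2 ▸ ⟨d.2, h1⟩, fun ⟨h1, h2⟩ => ⟨⟨c, h1⟩, h2, rfl⟩⟩
    have nK : K.Normal := ⟨fun c hc g => (mK _).2 ⟨nC.conj_mem c ((mK c).1 hc).1 g, by
      rw [conj_pow, ((mK c).1 hc).2]; simp⟩⟩
    have KP : K ≤ P := fun c hc => CP ((mK c).1 hc).1
    have cK : Nat.card K = Nat.card f.ker := card_map_of_injective C.subtype_injective
    have c2 := cd ((QuotientGroup.mk' K).comp (P : Subgroup G).subtype)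
    rw [← MonoidHom.comap_ker, QuotientGroup.ker_mk', MonoidHom.range_comp, range_subtype,
      show K.comap (P : Subgroup G).subtype = K.subgroupOf P from rfl,
      Nat.card_congr (subgroupOfEquivOfLe KP).toEquiv, cK, iC, cf] at c2
    have c3 : Nat.card ((P : Subgroup G).map (QuotientGroup.mk' K)) = p ^ 2 :=
      Nat.eq_of_mul_eq_mul_left (Nat.card_pos (α := f.ker)) (by rw [← c2]; ring)
    have cP := IsPGroup.isMulCommutative_of_card_eq_prime_sq c3
    have z := H3.inf_commutator_inf_center_eq_bot _ cP (by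
      rw [c3]
      exact ((pp.coprime_iff_not_dvd.2 P.not_dvd_index).coprime_dvd_right
        (index_map_dvd _ (QuotientGroup.mk'_surjective K))).pow_left 2)
    have bz : QuotientGroup.mk' K b ∈ (P : Subgroup G).map (QuotientGroup.mk' K) ⊓
        commutator (G ⧸ K) ⊓ center (G ⧸ K) := by
      refine ⟨⟨⟨b, CP bC, rfl⟩, ?_⟩, mem_center_iff.2 fun g => ?_⟩
      · have := map_commutator_eq G (QuotientGroup.mk' K)
        rw [MonoidHom.range_eq_top.2 (QuotientGroup.mk'_surjective K)] at this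
        exact (this ▸ mem_map_of_mem _ (hc (CP bC)) :)
      · obtain ⟨g, rfl⟩ := QuotientGroup.mk'_surjective K g
        obtain ⟨y, hy, e⟩ := hb g
        have e2 := congrArg (QuotientGroup.mk' K) e
        have e3 := congrArg Subtype.val (cP.is_comm.comm ⟨_, mem_map_of_mem _ hy⟩
          ⟨_, mem_map_of_mem (QuotientGroup.mk' K) (CP bC)⟩)
        simp only [map_mul, map_inv, coe_mul] at e2 e3
        rw [e3, mul_inv_cancel_right] at e2
        exact mul_inv_eq_iff_eq_mul.1 e2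
    rw [z] at bz
    exact np hk ((mK b).1 ((QuotientGroup.eq_one_iff b).1 bz)).2

end Cfsg.Agent.IS
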