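import Cfsg.Prelude.Def_CaseTheorems
import Cfsg.Prelude.Def_Transfer

/-! An abelian centralizer of the normal `E_{p²}` is homocyclic. -/

set_option autoImplicit false

namespace Cfsg.Agent.IS

open Subgroup

namespace B2

variable {G : Type*} [Group G] [Finite G] {p : ℕ} [Fact p.Prime]

open scoped IsMulCommutative in
theorem ztr (H : Subgroup G) (ab : ∀ a ∈ H, ∀ b ∈ H, a * b = b * a) (hi : ¬ p ∣ H.index) {c : G}
    (cz : c ∈ center G) (cc : c ∈ commutator G) {k : ℕ} (ck : c ^ p ^ k = 1) : c = 1 := by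
  haveI : IsMulCommutative H := ⟨⟨fun a b => Subtype.ext (ab _ a.2 _ b.2)⟩⟩
  have h1 := MonoidHom.transfer_eq_pow (MonoidHom.id H) c fun n g _ => by
    rw [mul_assoc, ← mem_center_iff.1 (pow_mem cz n), inv_mul_cancel_left]
  rw [MonoidHom.mem_ker.1 (Abelianization.commutator_subset_ker _ cc)] at h1
  have h2 : c ^ H.index = 1 := (congrArg Subtype.val h1).symm
  exact orderOf_eq_one_iff.1 (Nat.eq_one_of_dvd_coprimes (((Nat.Prime.coprime_iff_not_dvd Fact.out).2 hi).pow_left k)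
    (orderOf_dvd_of_pow_eq_one ck) (orderOf_dvd_of_pow_eq_one h2))

theorem cen1 (N : Subgroup G) [N.Normal] (hN : Nat.card N = p) {y : G} {k : ℕ} (hy : y ^ p ^ k = 1) {n : G}
    (hn : n ∈ N) : y * n * y⁻¹ = n := by
  haveI := isCyclic_of_prime_card hN
  have hp : p.Prime := Fact.out
  have h1 : orderOf (MulAut.conjNormal (H := N) y) ∣ p - 1 := by
    rw [← Nat.totient_prime hp, ← hN, ← IsCyclic.card_mulAut]; exact orderOf_dvd_natCard _
  have h2 : orderOf (MulAut.conjNormal (H := N) y) ∣ p ^ k :=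
    orderOf_dvd_of_pow_eq_one (by rw [← map_pow, hy, map_one])
  have h3 := orderOf_eq_one_iff.1 (Nat.eq_one_of_dvd_coprimes
    ((Nat.coprime_self_sub_right hp.one_le).2 (Nat.coprime_one_right _) |>.pow_left k) h2 h1)
  exact congrArg Subtype.val (DFunLike.congr_fun h3 ⟨n, hn⟩)

theorem mid {A V U : Subgroup G} (hA : Nat.card A = p) (hU : Nat.card U = p ^ 2) (h1 : A ≤ V) (h2 : V ≤ U) :
    V = A ∨ V = U := by
  have hp : p.Prime := Fact.out
  obtain ⟨i, hi, e⟩ := (Nat.dvd_prime_pow hp).1 (hU ▸ card_dvd_of_le h2)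
  have := card_le_of_le h1
  interval_cases i
  · rw [hA, e] at this; exact absurd this (by simpa using hp.one_lt)
  · exact .inl (eq_of_le_of_card_ge h1 (by rw [hA, e, pow_one])).symm
  · exact .inr (eq_of_le_of_card_ge h2 (by rw [hU, e]))

/-- elements killed by `k` -/
def Om (C : Subgroup G) (ab : ∀ a ∈ C, ∀ b ∈ C, a * b = b * a) (k : ℕ) : Subgroup G where
  carrier := {c | c ∈ C ∧ c ^ k = 1}
  one_mem' := ⟨one_mem _, one_pow _⟩
  mul_mem' := fun {a b} h1 h2 => ⟨mul_mem h1.1 h2.1, by rw [Commute.mul_pow (ab _ h1.1 _ h2.1), h1.2, h2.2, one_mul]⟩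
  inv_mem' := fun {a} h => ⟨inv_mem h.1, by rw [inv_pow, h.2, inv_one]⟩

/-- `k`-th powers -/
def Pw (C : Subgroup G) (ab : ∀ a ∈ C, ∀ b ∈ C, a * b = b * a) (k : ℕ) : Subgroup G where
  carrier := {c | ∃ a ∈ C, a ^ k = c}
  one_mem' := ⟨1, one_mem _, one_pow _⟩
  mul_mem' := fun ⟨a, h1, e1⟩ ⟨b, h2, e2⟩ => ⟨_, mul_mem h1 h2, by rw [Commute.mul_pow (ab _ h1 _ h2), e1, e2]⟩
  inv_mem' := fun ⟨a, h, e⟩ => ⟨_, inv_mem h, by rw [inv_pow, e]⟩

theorem homo {C U : Subgroup G} (ab : ∀ a ∈ C, ∀ b ∈ C, a * b = b * a) (cU : Nat.card U = p ^ 2) {d : ℕ}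
    (hd : ∀ c ∈ C, c ^ p ^ (d + 1) = 1) (o : ∀ c ∈ C, c ^ p = 1 → c ∈ U) (hZ : Pw C ab (p ^ d) = U) :
    ∃ a b : G, orderOf a = p ^ (d + 1) ∧ orderOf b = p ^ (d + 1) ∧ a * b = b * a ∧ zpowers a ⊓ zpowers b = ⊥ ∧
      zpowers a ⊔ zpowers b = C ∧ Nat.card C = p ^ (2 * (d + 1)) := by
  have hp : p.Prime := Fact.out
  obtain ⟨_, ⟨a, aC, rfl⟩, a1⟩ : ∃ u ∈ Pw C ab (p ^ d), u ≠ 1 := by
    rw [hZ]
    refine (bot_or_exists_ne_one U).resolve_left fun e => ?_
    rw [e, card_bot] at cU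
    exact (Nat.one_lt_pow two_ne_zero hp.one_lt).ne cU
  have op : ∀ {c}, c ∈ C → c ^ p ^ d ≠ 1 → orderOf (c ^ p ^ d) = p := fun {c} h1 h2 =>
    orderOf_eq_prime (by rw [← pow_mul, ← pow_succ, hd c h1]) h2
  have ca : Nat.card (zpowers (a ^ p ^ d)) = p := by rw [Nat.card_zpowers, op aC a1]
  obtain ⟨_, ⟨b, bC, rfl⟩, b1⟩ : ∃ u ∈ Pw C ab (p ^ d), u ∉ zpowers (a ^ p ^ d) := by
    rw [hZ]
    refine SetLike.not_le_iff_exists.1 fun e => ?_
    have := card_le_of_le e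
    rw [cU, ca] at this
    nlinarith [hp.two_le]
  have b2 : b ^ p ^ d ≠ 1 := fun e => b1 (e ▸ one_mem _)
  have oa := orderOf_eq_prime_pow a1 (hd a aC)
  have ob := orderOf_eq_prime_pow b2 (hd b bC)
  have le : zpowers a ⊔ zpowers b ≤ C := sup_le (zpowers_le_of_mem aC) (zpowers_le_of_mem bC)
  have ab' : ∀ x ∈ zpowers a ⊔ zpowers b, ∀ y ∈ zpowers a ⊔ zpowers b, x * y = y * x := fun x hx y hy =>
    ab _ (le hx) _ (le hy)
  have uH : U ≤ Pw _ ab' (p ^ d) := by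
    refine ((mid ca cU (V := Pw _ ab' (p ^ d)) (zpowers_le_of_mem ⟨a, mem_sup_left (mem_zpowers a), rfl⟩) ?_).resolve_left
      fun e => b1 (e ▸ ⟨b, mem_sup_right (mem_zpowers b), rfl⟩)).ge
    rintro _ ⟨c, hc, rfl⟩
    exact hZ ▸ ⟨c, le hc, rfl⟩
  have gen : ∀ k ≤ d + 1, ∀ c ∈ C, c ^ p ^ k = 1 → c ∈ zpowers a ⊔ zpowers b := fun k => by
    induction k with
    | zero => exact fun _ c _ e => by rw [pow_zero, pow_one] at e; exact e ▸ one_mem _
    | succ k ih =>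
      intro hk c hc e
      obtain ⟨h, hH, e1⟩ := uH (o _ (pow_mem hc (p ^ k)) (by rw [← pow_mul, ← pow_succ, e]))
      obtain ⟨m, rfl⟩ := Nat.exists_eq_add_of_le (by omega : k ≤ d)
      have h1 := pow_mem hH (p ^ m)
      refine (mul_mem_cancel_right (inv_mem h1)).1 (ih (by omega) _ (mul_mem hc (le (inv_mem h1))) ?_)
      rw [Commute.mul_pow (ab _ hc _ (le (inv_mem h1))), inv_pow, ← pow_mul, ← pow_add, add_comm m, e1, mul_inv_cancel]
  have sup : zpowers a ⊔ zpowers b = C := le_antisymm le fun c hc => gen _ le_rfl c hc (hd c hc)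
  have inf : zpowers a ⊓ zpowers b = ⊥ := by
    by_contra ne
    have sub : ∀ {c : G}, orderOf c = p ^ (d + 1) → ∀ {y}, y ∈ zpowers c → orderOf y = p → zpowers y = zpowers (c ^ p ^ d) := by
      intro c oc y hy oy
      obtain ⟨n, rfl⟩ := (mem_powers_iff_mem_zpowers.2 hy)
      have : p ^ (d + 1) ∣ n * p := by
        rw [← oc, orderOf_dvd_iff_pow_eq_one, pow_mul, ← oy]; exact pow_orderOf_eq_one _
      rw [pow_succ] at this
      obtain ⟨t, rfl⟩ := Nat.dvd_of_mul_dvd_mul_right hp.pos this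
      refine eq_of_le_of_card_ge (zpowers_le_of_mem ?_) ?_
      · simp only [pow_mul]; exact pow_mem (mem_zpowers _) _
      · rw [Nat.card_zpowers, Nat.card_zpowers, oy]
        exact orderOf_le_of_pow_eq_one hp.pos (by rw [← pow_mul, ← pow_succ, ← oc, pow_orderOf_eq_one])
    obtain ⟨i, hi, e⟩ := (Nat.dvd_prime_pow hp).1 (oa ▸ Nat.card_zpowers a ▸
      card_dvd_of_le (inf_le_left : zpowers a ⊓ zpowers b ≤ _))
    obtain ⟨y, hy⟩ := exists_prime_orderOf_dvd_card' (G := ↥(zpowers a ⊓ zpowers b)) p (e ▸ dvd_pow_self p fun h =>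
      ne (card_eq_one.1 (by rw [e, h, pow_zero])))
    rw [← orderOf_coe] at hy
    exact b1 ((sub oa y.2.1 hy).symm.trans (sub ob y.2.2 hy) ▸ mem_zpowers _)
  refine ⟨a, b, oa, ob, ab a aC b bC, inf, sup, ?_⟩
  rw [show p ^ (2 * (d + 1)) = Nat.card (zpowers a × zpowers b) by
    rw [Nat.card_prod, Nat.card_zpowers, Nat.card_zpowers, oa, ob, two_mul, pow_add p (d + 1)]]
  let φ : zpowers a × zpowers b →* G := (zpowers a).subtype.noncommCoprod (zpowers b).subtype fun x y =>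
    ab' _ (mem_sup_left x.2) _ (mem_sup_right y.2)
  have r : φ.range = C := (MonoidHom.noncommCoprod_range _ _ _).trans (by rw [range_subtype, range_subtype, sup])
  rw [← r]
  refine (Nat.card_congr (MonoidHom.ofInjective ?_).toEquiv).symm
  refine (MonoidHom.noncommCoprod_injective _ _ _).2 ⟨subtype_injective _, subtype_injective _, ?_⟩
  rwa [range_subtype, range_subtype, disjoint_iff]

end B2

open B2 in
set_option linter.unusedVariables false in
theorem sb2 {G : Type*} [Group G] [Finite G] {p : ℕ} [Fact p.Prime] (hp : p ≠ 2) (P : Sylow p G)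
    (hn : (P : Subgroup G).Normal) (hr : Cfsg.PRankLE p 2 G) {x : G} (hxP : x ∈ (P : Subgroup G)) (hx : orderOf x = p)
    (hz : x ∈ center G) (hc : (P : Subgroup G) ≤ commutator G) (U : Subgroup G) (hUP : U ≤ P)
    (hU : Cfsg.IsElementaryAbelian p U) (cU : Nat.card U = p ^ 2) (nU : U.Normal)
    (ab : ∀ a ∈ (P : Subgroup G) ⊓ centralizer (U : Set G), ∀ b ∈ (P : Subgroup G) ⊓ centralizer (U : Set G),
      a * b = b * a) :
    ∃ (e : ℕ) (a b : G), 1 ≤ e ∧ orderOf a = p ^ e ∧ orderOf b = p ^ e ∧ a * b = b * a ∧ zpowers a ⊓ zpowers b = ⊥ ∧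
      zpowers a ⊔ zpowers b = (P : Subgroup G) ⊓ centralizer (U : Set G) ∧ Nat.card (P : Subgroup G) = p ^ (2 * e + 1) ∧
      ¬ (P : Subgroup G) ≤ centralizer (U : Set G) := by
  classical
  have pp : p.Prime := Fact.out
  have x1 : x ≠ 1 := fun e => pp.one_lt.ne' (by rw [← hx, e, orderOf_one])
  have xp : x ^ p = 1 := hx ▸ pow_orderOf_eq_one x
  have cx : Nat.card (zpowers x) = p := by rw [Nat.card_zpowers, hx]
  have pw : ∀ y ∈ (P : Subgroup G), ∃ k, y ^ p ^ k = 1 := fun y hy =>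
    (P.isPGroup' ⟨y, hy⟩).imp fun k e => congrArg Subtype.val e
  have nP : ¬ (P : Subgroup G) ≤ centralizer (U : Set G) := fun h => x1 (ztr (P : Subgroup G)
    (fun a ha b hb => ab a ⟨ha, h ha⟩ b ⟨hb, h hb⟩) P.not_dvd_index hz (hc hxP) (k := 1) (by rwa [pow_one]))
  set C := (P : Subgroup G) ⊓ centralizer (U : Set G) with hC
  haveI nC : C.Normal := inferInstance
  have UC : U ≤ C := le_inf hUP fun u hu v hv => congrArg Subtype.val (hU.1.1.1 ⟨v, hv⟩ ⟨u, hu⟩)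
  have xC : x ∈ C := ⟨hxP, center_le_centralizer _ hz⟩
  have o : ∀ c ∈ C, c ^ p = 1 → c ∈ U := fun c h1 h2 => (eq_of_le_of_card_ge (K := Om C ab p)
    (fun u hu => ⟨UC hu, hU.2 u hu⟩) (cU ▸ hr _ ⟨⟨fun a b => Subtype.ext (ab _ a.2.1 _ b.2.1)⟩⟩ fun a ha => ha.2)).ge
    ⟨h1, h2⟩
  have xU : zpowers x ≤ U := zpowers_le_of_mem (o x xC xp)
  have xz : zpowers x ≤ center G := zpowers_le_of_mem hz
  haveI nx : (zpowers x).Normal := ⟨fun n h g => by rwa [mem_center_iff.1 (xz h) g, mul_inv_cancel_right]⟩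
  obtain ⟨u, uU, ux⟩ : ∃ u ∈ U, u ∉ zpowers x := SetLike.not_le_iff_exists.1 fun e => by
    have := card_le_of_le e
    rw [cU, cx] at this
    nlinarith [pp.two_le]
  -- an element commuting with one element of `U` outside `⟨x⟩` centralizes `U`
  have cu : ∀ v ∈ U, v ∉ zpowers x → ∀ y, y * v = v * y → y ∈ centralizer (U : Set G) := fun v hv vx y e =>
    fun w hw => mem_centralizer_singleton_iff.1 ((((mid cx cU (V := U ⊓ centralizer {y})
      (le_inf xU (xz.trans (center_le_centralizer _))) inf_le_left).resolve_left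
      fun e' => vx (e' ▸ ⟨hv, mem_centralizer_singleton_iff.2 e.symm⟩)).ge hw).2)
  have th : ∀ y ∈ (P : Subgroup G), y * u * y⁻¹ * u⁻¹ ∈ zpowers x := fun y hy => by
    obtain ⟨k, hk⟩ := pw y hy
    let π := QuotientGroup.mk' (zpowers x)
    haveI := nU.map π (QuotientGroup.mk'_surjective _)
    have c1 : Nat.card (U.map π) = p := by
      have h1 := relIndex_ker (K := U) (f := π)
      have h2 := relIndex_mul_index (H := (zpowers x).subgroupOf U) (K := ⊤) le_top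
      have h3 := ((zpowers x).subgroupOf U).card_mul_index
      rw [QuotientGroup.ker_mk'] at h1
      rw [Nat.card_congr (subgroupOfEquivOfLe xU).toEquiv, cx, cU, pow_two] at h3
      rw [← h1]
      exact Nat.eq_of_mul_eq_mul_left pp.pos h3
    have := cen1 (U.map π) c1 (y := π y) (k := k) (by rw [← map_pow, hk, map_one]) (mem_map_of_mem π uU)
    rw [← QuotientGroup.ker_mk' (zpowers x), MonoidHom.mem_ker, map_mul, map_mul, map_mul, map_inv, map_inv]
    exact mul_inv_eq_one.2 this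
  let θ : (P : Subgroup G) →* G := MonoidHom.mk' (fun y => y * u * (y : G)⁻¹ * u⁻¹) fun y y' => by
    have := mem_center_iff.1 (xz (th y' y'.2))
    calc _ = y * (y' * u * (y' : G)⁻¹ * u⁻¹) * (u * (y : G)⁻¹ * u⁻¹) := by push_cast; group
      _ = y * (u * (y : G)⁻¹ * u⁻¹) * (y' * u * (y' : G)⁻¹ * u⁻¹) := by rw [mul_assoc, ← this, ← mul_assoc]
      _ = _ := by group
  have kθ : θ.ker = C.subgroupOf P := by
    ext y
    exact ⟨fun h => ⟨y.2, cu u uU ux _ (mul_inv_eq_iff_eq_mul.1 (mul_inv_eq_one.1 h))⟩,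
      fun h => mul_inv_eq_one.2 (mul_inv_eq_iff_eq_mul.2 (h.2 u uU).symm)⟩
  have rθ : θ.range = zpowers x := by
    have l : θ.range ≤ zpowers x := by rintro _ ⟨y, rfl⟩; exact th y y.2
    rcases (Nat.dvd_prime pp).1 (cx ▸ card_dvd_of_le l) with e | e
    · refine absurd (fun y hy => ?_) nP
      have : (⟨y, hy⟩ : (P : Subgroup G)) ∈ θ.ker := (card_eq_one.1 e).le ⟨_, rfl⟩
      exact (kθ.le this).2
    · exact eq_of_le_of_card_ge l (by rw [cx, e])
  have cP : Nat.card (P : Subgroup G) = Nat.card C * p := by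
    rw [← θ.ker.card_mul_index, index_ker, rθ, cx, kθ, Nat.card_congr (subgroupOfEquivOfLe inf_le_left).toEquiv]
  have ex : ∃ e, ∀ c ∈ C, c ^ p ^ e = 1 := by
    obtain ⟨e, he⟩ := P.isPGroup'.exists_card_eq
    exact ⟨e, fun c h => congrArg Subtype.val (he ▸ pow_card_eq_one' (x := (⟨c, h.1⟩ : (P : Subgroup G))))⟩
  obtain ⟨d, hd⟩ : ∃ d, Nat.find ex = d + 1 := Nat.exists_eq_succ_of_ne_zero fun e => x1 (by
    simpa [e] using Nat.find_spec ex x xC)
  have h1 := Nat.find_spec ex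
  have h2 := Nat.find_min ex (m := d) (by omega)
  rw [hd] at h1
  have ZU : Pw C ab (p ^ d) ≤ U := by
    rintro _ ⟨c, h, rfl⟩
    exact o _ (pow_mem h _) (by rw [← pow_mul, ← pow_succ, h1 c h])
  have hZ : Pw C ab (p ^ d) = U := by
    by_contra ne
    haveI nZ : (Pw C ab (p ^ d)).Normal := ⟨fun _ ⟨c, h, e⟩ g => ⟨_, nC.conj_mem c h g, by rw [conj_pow, e]⟩⟩
    have cZ : Nat.card (Pw C ab (p ^ d)) = p := by
      obtain ⟨i, hi, e⟩ := (Nat.dvd_prime_pow pp).1 (cU ▸ card_dvd_of_le ZU)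
      interval_cases i
      · exact absurd (fun c h => (card_eq_one.1 (e.trans (pow_zero p))).le ⟨c, h, rfl⟩) h2
      · rwa [pow_one] at e
      · exact absurd (eq_of_le_of_card_ge ZU (by rw [cU, e])) ne
    have Zx : Pw C ab (p ^ d) ≤ zpowers x := fun v hv => by
      by_contra vx
      refine nP fun y hy => cu v (ZU hv) vx y ?_
      obtain ⟨k, hk⟩ := pw y hy
      exact mul_inv_eq_iff_eq_mul.1 (cen1 _ cZ hk hv)
    haveI nK : (Om C ab (p ^ d)).Normal := ⟨fun c h g => ⟨nC.conj_mem c h.1 g, by rw [conj_pow, h.2, mul_one, mul_inv_cancel]⟩⟩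
    let π := QuotientGroup.mk' (Om C ab (p ^ d))
    have sπ : Function.Surjective π := QuotientGroup.mk'_surjective _
    have kπ : ∀ {c}, π c = 1 ↔ c ∈ Om C ab (p ^ d) := QuotientGroup.eq_one_iff _
    have cc : ∀ c ∈ C, π c ∈ center _ := fun c h => mem_center_iff.2 fun g => by
      obtain ⟨g, rfl⟩ := sπ g
      have h3 := nC.conj_mem c h g
      have : π (g * c * g⁻¹ * c⁻¹) = 1 := kπ.2 ⟨mul_mem h3 (inv_mem h), by
        rw [Commute.mul_pow (ab _ h3 _ (inv_mem h)), conj_pow, inv_pow,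
          mem_center_iff.1 (xz (Zx ⟨c, h, rfl⟩)) g, mul_inv_cancel_right, mul_inv_cancel]⟩
      rwa [map_mul, map_mul, map_mul, map_inv, map_inv, mul_inv_eq_one, mul_inv_eq_iff_eq_mul] at this
    obtain ⟨s, hs⟩ : x ∈ θ.range := rθ ▸ mem_zpowers x
    have dec : ∀ y ∈ (P : Subgroup G), ∃ (i : ℤ) (c : G), c ∈ C ∧ y = s ^ i * c := fun y hy => by
      obtain ⟨i, hi⟩ := rθ.le ⟨⟨y, hy⟩, rfl⟩
      refine ⟨i, ((s ^ i)⁻¹ * ⟨y, hy⟩ : (P : Subgroup G)), mem_subgroupOf.1 (kθ.le (MonoidHom.mem_ker.2 ?_)), by simp⟩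
      rw [map_mul, map_inv, map_zpow, hs, ← hi]
      exact inv_mul_cancel _
    refine h2 fun c h => (kπ.1 (ztr ((P : Subgroup G).map π) ?_ (fun e => P.not_dvd_index (e.trans
      (index_map_dvd _ sπ))) (cc c h) ?_ (k := d + 1) (by rw [← map_pow, h1 c h, map_one]))).2
    · rintro _ ⟨y, hy, rfl⟩ _ ⟨y', hy', rfl⟩
      obtain ⟨i, c, h, rfl⟩ := dec y hy
      obtain ⟨j, c', h', rfl⟩ := dec y' hy'
      have e1 := mem_center_iff.1 (cc c h)
      have e2 := mem_center_iff.1 (cc c' h')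
      simp only [map_mul, map_zpow]
      rw [mul_assoc, ← e1, mul_assoc (π s ^ j) (π c') (_ * _), ← e2, ← mul_assoc, ← mul_assoc, ← mul_assoc, ← mul_assoc,
        ← zpow_add, ← zpow_add, add_comm, mul_assoc, mul_assoc, e1]
    · have := mem_map_of_mem π (hc h.1)
      rw [_root_.commutator_def, map_commutator] at this
      exact commutator_mono le_top le_top this
  obtain ⟨a, b, e1, e2, e3, e4, e5, e6⟩ := homo ab cU h1 o hZ
  exact ⟨d + 1, a, b, by omega, e1, e2, e3, e4, e5, by rw [cP, e6, ← pow_succ], nP⟩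

end Cfsg.Agent.IS
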