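import Cfsg.Agent.H11.Syl
import Cfsg.Agent.H3.Fusion
import Cfsg.Prelude.Def_CaseTheorems
import Cfsg.Prelude.Def_Transfer

/-! A normal Sylow subgroup of rank two with an abelian maximal subgroup. -/

set_option autoImplicit false

namespace Cfsg.Agent.IS

open Subgroup Cfsg.Agent.H11

variable {G : Type*} [Group G] [Finite G] {p : ℕ} [hp : Fact p.Prime]

namespace Sb4

theorem relidx {P : Subgroup G} (hP : IsPGroup p P) (u : G) (S : Set G) (h : ∀ s ∈ P, s * u * s⁻¹ ∈ S) :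
    ∃ n, (centralizer ({u} : Set G)).relIndex P = p ^ n ∧ p ^ n ≤ S.ncard := by
  obtain ⟨n, hn⟩ := hP.index ((centralizer ({u} : Set G)).subgroupOf P)
  refine ⟨n, hn, ?_⟩
  letI : MulAction P G := MulAction.compHom G (MulAut.conj.comp P.subtype)
  have e : MulAction.stabilizer P u = (centralizer ({u} : Set G)).subgroupOf P := by
    ext s
    rw [MulAction.mem_stabilizer_iff, mem_subgroupOf, mem_centralizer_singleton_iff]
    exact mul_inv_eq_iff_eq_mul
  rw [← hn, ← e, MulAction.index_stabilizer]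
  refine Set.ncard_le_ncard ?_ (Set.toFinite _)
  rintro _ ⟨s, rfl⟩
  exact h s s.2

omit [Finite G] hp in
theorem om (hr : PRankLE p 2 G) {U : Subgroup G} (hU : IsElementaryAbelian p U) (cU : Nat.card U = p ^ 2)
    [U.Normal] [Finite G] {c : G} (hc : c ∈ centralizer (U : Set G)) (h1 : c ^ p = 1) : c ∈ U := by
  have cu : ∀ u ∈ U, ∀ t ∈ zpowers c, Commute u t := by
    rintro u hu _ ⟨k, rfl⟩
    exact Commute.zpow_right (mem_centralizer_iff.1 hc u hu) k
  have uu : ∀ u ∈ U, ∀ v ∈ U, Commute u v := fun u hu v hv =>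
    congrArg Subtype.val (hU.1.is_comm.comm (⟨u, hu⟩ : U) ⟨v, hv⟩)
  have := hr (U ⊔ zpowers c) ⟨⟨fun a b => Subtype.ext (by
      obtain ⟨u, hu, t, ht, e⟩ := mem_sup_of_normal_left.1 a.2
      obtain ⟨v, hv, s, hs, f⟩ := mem_sup_of_normal_left.1 b.2
      have ts : Commute t s := by
        obtain ⟨i, rfl⟩ := ht
        obtain ⟨j, rfl⟩ := hs
        exact Commute.zpow_zpow_self c i j
      have : Commute (u * t) (v * s) :=
        ((uu u hu v hv).mul_right (cu u hu s hs)).mul_left ((cu v hv t ht).symm.mul_right ts)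
      rw [e, f] at this
      exact this)⟩⟩ (fun a ha => by
      obtain ⟨u, hu, t, ht, rfl⟩ := mem_sup_of_normal_left.1 ha
      rw [(cu u hu t ht).mul_pow, hU.2 u hu, one_mul]
      obtain ⟨i, rfl⟩ := ht
      rw [← zpow_natCast, ← zpow_mul, mul_comm, zpow_mul, zpow_natCast, h1, one_zpow])
  rw [eq_of_le_of_card_ge (le_sup_left : U ≤ U ⊔ zpowers c) (cU ▸ this)]
  exact mem_sup_right (mem_zpowers c)

theorem cen {U : Subgroup G} (cU : Nat.card U = p ^ 2) {x u s : G} (hx : orderOf x = p) (hz : x ∈ center G)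
    (xU : x ∈ U) (hu : u ∈ U) (hux : u ∉ zpowers x) (h : s * u = u * s) : s ∈ centralizer (U : Set G) := by
  have l : zpowers x ⊔ zpowers u ≤ U := sup_le (zpowers_le.2 xU) (zpowers_le.2 hu)
  have lt : zpowers x < zpowers x ⊔ zpowers u :=
    lt_of_le_of_ne le_sup_left fun e => hux (e ▸ mem_sup_right (mem_zpowers u))
  have h1 := card_lt_of_lt lt
  rw [Nat.card_zpowers, hx] at h1
  obtain ⟨k, hk, e⟩ := (Nat.dvd_prime_pow hp.out).1 (cU ▸ card_dvd_of_le l)
  have k2 : k = 2 := by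
    have : 1 < k := (Nat.pow_lt_pow_iff_right hp.out.one_lt).1 (by rw [← e, pow_one]; exact h1)
    omega
  have eq := eq_of_le_of_card_ge l (by rw [e, k2, cU])
  have : U ≤ centralizer ({s} : Set G) := by
    rw [← eq]
    exact sup_le (zpowers_le.2 (mem_centralizer_singleton_iff.2 (mem_center_iff.1 hz s).symm))
      (zpowers_le.2 (mem_centralizer_singleton_iff.2 h.symm))
  exact mem_centralizer_iff.2 fun v hv => mem_centralizer_singleton_iff.1 (this hv)

theorem exu {U : Subgroup G} (cU : Nat.card U = p ^ 2) {x : G} (hx : orderOf x = p) : ∃ u ∈ U, u ∉ zpowers x := by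
  by_contra H
  have l : U ≤ zpowers x := fun u hu => by_contra fun n => H ⟨u, hu, n⟩
  have := card_le_of_le l
  rw [cU, Nat.card_zpowers, hx] at this
  have := hp.out.one_lt
  nlinarith

omit [Finite G] in
theorem low {a y : G} {e : ℕ} (ha : orderOf a = p ^ (e + 1)) (hy : y ∈ zpowers a) (h1 : y ^ p = 1) :
    y ∈ zpowers (a ^ p ^ e) := by
  obtain ⟨i, rfl⟩ := hy
  rw [← zpow_natCast, ← zpow_mul, ← orderOf_dvd_iff_zpow_eq_one, ha] at h1
  push_cast at h1
  rw [pow_succ] at h1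
  obtain ⟨k, rfl⟩ := Int.dvd_of_mul_dvd_mul_right (by exact_mod_cast hp.out.ne_zero) h1
  exact ⟨k, by simp only [zpow_mul, ← zpow_natCast]; push_cast; rfl⟩


theorem idx (P : Sylow p G) (hr : PRankLE p 2 G) {x : G} (hx : orderOf x = p) (hz : x ∈ center G)
    (U : Subgroup G) (hU : IsElementaryAbelian p U) (cU : Nat.card U = p ^ 2) (nU : U.Normal)
    (hne : ¬ (P : Subgroup G) ≤ centralizer (U : Set G)) :
    Nat.card (P : Subgroup G) = p * Nat.card ((P : Subgroup G) ⊓ centralizer (U : Set G) : Subgroup G) := by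
  have xU : x ∈ U := om hr hU cU (center_le_centralizer _ hz) (hx ▸ pow_orderOf_eq_one x)
  obtain ⟨u, hu, hux⟩ := exu cU hx
  have u1 : u ≠ 1 := fun e => hux (e ▸ one_mem _)
  have e : centralizer ({u} : Set G) = centralizer (U : Set G) := le_antisymm
    (fun s hs => cen cU hx hz xU hu hux (mem_centralizer_singleton_iff.1 hs))
    (centralizer_le (Set.singleton_subset_iff.2 hu))
  obtain ⟨n, h1, h2⟩ := relidx P.isPGroup' u ((U : Set G) \ {1}) fun s _ =>
    ⟨nU.conj_mem u hu s, fun h => u1 (conj_eq_one_iff.1 h)⟩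
  have h3 : ((U : Set G) \ {1}).ncard < p ^ 2 := by
    rw [← cU]
    exact Set.ncard_lt_ncard ⟨Set.diff_subset, fun h => (h U.one_mem).2 rfl⟩ (Set.toFinite _)
  have n2 : n < 2 := (Nat.pow_lt_pow_iff_right hp.out.one_lt).1 (h2.trans_lt h3)
  rw [e] at h1
  have n0 : n ≠ 0 := fun h => hne (relIndex_eq_one.1 (by rw [h1, h, pow_zero]))
  obtain rfl : n = 1 := by omega
  rw [← card_mul_relIndex (inf_le_left : (P : Subgroup G) ⊓ centralizer (U : Set G) ≤ P), inf_relIndex_left, h1,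
    pow_one, mul_comm]

end Sb4

open Sb4

theorem sb4 (_hp : p ≠ 2) (P : Sylow p G) (hn : (P : Subgroup G).Normal) (hr : PRankLE p 2 G) {x : G}
    (hxP : x ∈ (P : Subgroup G)) (hx : orderOf x = p) (hz : x ∈ center G) (hc : (P : Subgroup G) ≤ commutator G)
    (U : Subgroup G) (_hUP : U ≤ P) (hU : IsElementaryAbelian p U) (cU : Nat.card U = p ^ 2) (nU : U.Normal)
    (hne : ¬ (P : Subgroup G) ≤ centralizer (U : Set G))
    (hab : ∀ a ∈ (P : Subgroup G) ⊓ centralizer (U : Set G), ∀ b ∈ (P : Subgroup G) ⊓ centralizer (U : Set G), a * b = b * a) :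
    ∃ (e : ℕ) (a b : G), 1 ≤ e ∧ orderOf a = p ^ e ∧ orderOf b = p ^ e ∧ a * b = b * a ∧ zpowers a ⊓ zpowers b = ⊥ ∧
      zpowers a ⊔ zpowers b = (P : Subgroup G) ⊓ centralizer (U : Set G) ∧
      Nat.card (P : Subgroup G) = p ^ (2 * e + 1) ∧ ¬ (P : Subgroup G) ≤ centralizer (U : Set G) := by
  classical
  have hi := Sb4.idx P hr hx hz U hU cU nU hne
  have xp : x ^ p = 1 := hx ▸ pow_orderOf_eq_one x
  have x1 : x ≠ 1 := fun e => hp.out.one_lt.ne' (by rw [← hx, e, orderOf_one])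
  have xU : x ∈ U := om hr hU cU (center_le_centralizer _ hz) xp
  have nC : ((P : Subgroup G) ⊓ centralizer (U : Set G)).Normal := inferInstance
  have C1 : (P : Subgroup G) ⊓ centralizer (U : Set G) ≤ P := inf_le_left
  have C2 : (P : Subgroup G) ⊓ centralizer (U : Set G) ≤ centralizer (U : Set G) := inf_le_right
  have xC : x ∈ (P : Subgroup G) ⊓ centralizer (U : Set G) := ⟨hxP, center_le_centralizer _ hz⟩
  generalize (P : Subgroup G) ⊓ centralizer (U : Set G) = C at *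
  let ψ : ℕ → (C →* G) := fun k => MonoidHom.mk' (fun c => (c : G) ^ p ^ k) fun a b =>
    Commute.mul_pow (hab a a.2 b b.2) _
  have ψa : ∀ k c, ψ k c = (c : G) ^ p ^ k := fun _ _ => rfl
  have hex : ∃ k, ∀ c ∈ C, c ^ p ^ k = 1 := by
    obtain ⟨k, hk⟩ := IsPGroup.iff_card.1 P.isPGroup'
    exact ⟨k, fun c h => congrArg Subtype.val (hk ▸ pow_card_eq_one' (x := (⟨c, C1 h⟩ : (P : Subgroup G))))⟩
  obtain ⟨e, he⟩ : ∃ e, Nat.find hex = e + 1 := Nat.exists_eq_succ_of_ne_zero fun h => x1 (by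
    simpa [h] using Nat.find_spec hex x xC)
  have e1 : ∀ c ∈ C, c ^ p ^ (e + 1) = 1 := he ▸ Nat.find_spec hex
  have e0 : ¬ ∀ c ∈ C, c ^ p ^ e = 1 := Nat.find_min hex (by omega)
  have stepU : ∀ k, (ψ (k + 1)).ker.map (ψ k) ≤ U := by
    rintro k _ ⟨c, hc, rfl⟩
    exact om hr hU cU (pow_mem (C2 c.2) _) (by rw [ψa, ← pow_mul, ← pow_succ]; exact hc)
  have step : ∀ k, Nat.card (ψ k).ker * Nat.card ((ψ (k + 1)).ker.map (ψ k)) = Nat.card (ψ (k + 1)).ker := fun k => by
    rw [← relIndex_ker]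
    exact card_mul_relIndex fun c hc => by
      rw [MonoidHom.mem_ker, ψa] at hc ⊢
      rw [pow_succ, pow_mul, hc, one_pow]
  have bd : ∀ k, Nat.card (ψ k).ker ≤ p ^ (2 * k) := fun k => by
    induction k with
    | zero =>
      have : (ψ 0).ker = ⊥ := eq_bot_iff.2 fun c hc => Subtype.ext (by simpa [ψa] using hc)
      simp [this]
    | succ k ih =>
      rw [← step, mul_add, pow_add]
      exact Nat.mul_le_mul ih (cU ▸ card_le_of_le (stepU k))
  have kt : (ψ (e + 1)).ker = ⊤ := eq_top_iff.2 fun c _ => e1 c c.2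
  have cC : Nat.card C ≤ p ^ (2 * (e + 1)) := by simpa [kt] using bd (e + 1)
  have sW := step e
  have WU := stepU e
  rw [kt, ← MonoidHom.range_eq_map] at sW WU
  rw [card_top] at sW
  have nW : ∀ w ∈ (ψ e).range, ∀ g : G, g * w * g⁻¹ ∈ (ψ e).range := by
    rintro _ ⟨c, rfl⟩ g
    exact ⟨⟨_, nC.conj_mem c c.2 g⟩, by rw [ψa, ψa]; exact conj_pow⟩
  obtain ⟨k, hk, cW⟩ := (Nat.dvd_prime_pow hp.out).1 (cU ▸ card_dvd_of_le WU)
  have k0 : k ≠ 0 := fun h => e0 fun c hc => by
    rw [h, pow_zero, card_eq_one] at cW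
    exact mem_bot.1 (cW ▸ ⟨⟨c, hc⟩, rfl⟩)
  have k1 : k ≠ 1 := by
    rintro rfl
    rw [pow_one] at cW
    have wz : ∀ w ∈ (ψ e).range, ∀ g : G, g * w * g⁻¹ = w := fun w hw g => by
      have : w ∈ zpowers x := by
        by_contra hwx
        have w1 : w ≠ 1 := fun e => hwx (e ▸ one_mem _)
        obtain ⟨n, h1, h2⟩ := relidx P.isPGroup' w (((ψ e).range : Set G) \ {1}) fun s _ =>
          ⟨nW w hw s, fun h => w1 (conj_eq_one_iff.1 h)⟩
        have h3 : (((ψ e).range : Set G) \ {1}).ncard < p ^ 1 := by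
          rw [pow_one, ← cW]
          exact Set.ncard_lt_ncard ⟨Set.diff_subset, fun h => (h (one_mem _)).2 rfl⟩ (Set.toFinite _)
        have n2 : n < 1 := (Nat.pow_lt_pow_iff_right hp.out.one_lt).1 (h2.trans_lt h3)
        obtain rfl : n = 0 := by omega
        exact hne fun s hs => cen cU hx hz xU (WU hw) hwx
          (mem_centralizer_singleton_iff.1 (relIndex_eq_one.1 (by rw [h1, pow_zero]) hs))
      exact mul_inv_eq_iff_eq_mul.2 (mem_center_iff.1 (zpowers_le.2 hz this) g)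
    let K : Subgroup G := (ψ e).ker.map C.subtype
    have mK : ∀ {c}, c ∈ C → c ^ p ^ e = 1 → c ∈ K := fun h1 h2 => ⟨⟨_, h1⟩, h2, rfl⟩
    have nK : K.Normal := ⟨by
      rintro _ ⟨c, h, rfl⟩ g
      exact mK (nC.conj_mem c c.2 g) (by rw [conj_pow, show (C.subtype c) ^ p ^ e = 1 from h]; simp)⟩
    have KP : K ≤ P := (map_subtype_le _).trans C1
    have cP : Nat.card ((P : Subgroup G).map (QuotientGroup.mk' K)) = p ^ 2 := by
      have := card_mul_relIndex KP
      rw [← relIndex_ker, QuotientGroup.ker_mk']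
      rw [hi, ← sW, cW, H11.card_map_subtype] at this
      exact Nat.eq_of_mul_eq_mul_left Nat.card_pos (this.trans (by ring))
    have := H3.inf_commutator_inf_center_eq_bot _ (IsPGroup.isMulCommutative_of_card_eq_prime_sq cP) (by
      rw [cP]
      exact ((Nat.Prime.coprime_iff_not_dvd hp.out).2 fun h => P.not_dvd_index
        (h.trans (index_map_dvd _ (QuotientGroup.mk'_surjective K)))).pow_left 2)
    refine e0 fun c hcC => ?_
    have m : QuotientGroup.mk' K c ∈ (⊥ : Subgroup (G ⧸ K)) := by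
      rw [← this]
      refine ⟨⟨⟨c, C1 hcC, rfl⟩, ?_⟩, mem_center_iff.2 fun g => ?_⟩
      · have := mem_map_of_mem (QuotientGroup.mk' K) (hc (C1 hcC))
        rw [_root_.commutator_def, map_commutator] at this
        exact commutator_mono le_top le_top this
      · obtain ⟨g, rfl⟩ := QuotientGroup.mk'_surjective K g
        rw [← mul_inv_eq_one, mul_inv_rev, ← map_inv, ← map_inv, ← map_mul, ← map_mul, ← map_mul, ← MonoidHom.mem_ker,
          QuotientGroup.ker_mk', ← mul_assoc]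
        have gc := nC.conj_mem c hcC g
        refine mK (mul_mem gc (inv_mem hcC)) ?_
        rw [Commute.mul_pow (hab _ gc _ (inv_mem hcC)), conj_pow, wz (c ^ p ^ e) ⟨⟨c, hcC⟩, rfl⟩ g, inv_pow]
        exact mul_inv_cancel _
    rw [mem_bot, ← MonoidHom.mem_ker, QuotientGroup.ker_mk'] at m
    obtain ⟨c', h, rfl⟩ := m
    exact h
  obtain rfl : k = 2 := by omega
  have WU' := eq_of_le_of_card_ge WU (by rw [cW, cU])
  obtain ⟨u, hu, hux⟩ := exu cU hx
  have u1 : u ≠ 1 := fun e => hux (e ▸ one_mem _)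
  obtain ⟨a, ha⟩ : x ∈ (ψ e).range := WU' ▸ xU
  obtain ⟨b, hb⟩ : u ∈ (ψ e).range := WU' ▸ hu
  rw [ψa] at ha hb
  have oa : orderOf (a : G) = p ^ (e + 1) := orderOf_eq_prime_pow (ha ▸ x1) (e1 a a.2)
  have ob : orderOf (b : G) = p ^ (e + 1) := orderOf_eq_prime_pow (hb ▸ u1) (e1 b b.2)
  have dj : zpowers (a : G) ⊓ zpowers (b : G) = ⊥ := by
    by_contra H
    have hI : IsPGroup p (zpowers (a : G) ⊓ zpowers (b : G) : Subgroup G) :=
      P.isPGroup'.to_le (inf_le_left.trans ((zpowers_le.2 a.2).trans C1))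
    obtain ⟨n, hn'⟩ := IsPGroup.iff_card.1 hI
    have n0 : n ≠ 0 := fun h => H (card_eq_one.1 (by rw [hn', h, pow_zero]))
    obtain ⟨y, hy⟩ := exists_prime_orderOf_dvd_card' p (hn' ▸ dvd_pow_self p n0)
    have oy : orderOf (y : G) = p := (orderOf_coe y).trans hy
    have yp : (y : G) ^ p = 1 := oy ▸ pow_orderOf_eq_one (y : G)
    have y1 := low oa y.2.1 yp
    have y2 := low ob y.2.2 yp
    rw [ha] at y1
    rw [hb] at y2
    have ou : orderOf u = p := orderOf_eq_prime (hU.2 u hu) u1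
    have := eq_of_le_of_card_ge (zpowers_le.2 y2) (by rw [Nat.card_zpowers, Nat.card_zpowers, oy, ou])
    exact hux (zpowers_le.2 y1 (this ▸ mem_zpowers u))
  have le : zpowers (a : G) ⊔ zpowers (b : G) ≤ C := sup_le (zpowers_le.2 a.2) (zpowers_le.2 b.2)
  have ge : p ^ (2 * (e + 1)) ≤ Nat.card (zpowers (a : G) ⊔ zpowers (b : G) : Subgroup G) := by
    have := Nat.card_le_card_of_injective (fun g : zpowers (a : G) × zpowers (b : G) =>
      (⟨g.1 * g.2, mul_mem (mem_sup_left g.1.2) (mem_sup_right g.2.2)⟩ : (zpowers (a : G) ⊔ zpowers (b : G) : Subgroup G)))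
      fun g g' h => mul_injective_of_disjoint (disjoint_iff.2 dj) (congrArg Subtype.val h)
    rwa [Nat.card_prod, Nat.card_zpowers, Nat.card_zpowers, oa, ob, ← pow_add, ← two_mul] at this
  refine ⟨e + 1, a, b, by omega, oa, ob, hab _ a.2 _ b.2, dj, eq_of_le_of_card_ge le (cC.trans ge), ?_, hne⟩
  rw [hi, le_antisymm cC (ge.trans (card_le_of_le le)), pow_succ' p (2 * (e + 1))]

end Cfsg.Agent.IS
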