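import Cfsg.Agent.IS.MC
import Cfsg.Agent.IS.Sa
import Cfsg.Agent.IS.Sb
import Cfsg.Agent.IS.Sc
import Cfsg.Agent.IS.Y3
import Cfsg.Agent.IS.Y5
import Cfsg.Agent.S0126
import Cfsg.Agent.S2807
import Cfsg.Agent.S2968
import Cfsg.Agent.S2969
import Cfsg.Agent.S2970

/-!
# Sylow subgroups of rank two containing an isolated element
-/

set_option autoImplicit false

namespace Cfsg.Agent.IS

open Subgroup

/-- The two possible structures. -/
def Cn {G : Type*} [Group G] (p : ℕ) (P : Subgroup G) : Prop :=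
  (IsExtraspecial p ↥P ∧ Nat.card P = p ^ 3 ∧ ∀ y ∈ P, y ^ p = 1) ∨
    (p = 3 ∧ ∃ k : ℕ, 2 ≤ k ∧ Nat.card P = 3 ^ (2 * k + 1) ∧
      ∃ _ : Group.IsNilpotent ↥P, Group.nilpotencyClass ↥P = 2 * k)

theorem cn_equiv {G H : Type*} [Group G] [Group H] {p : ℕ} {P : Subgroup G} {Q : Subgroup H}
    (e : P ≃* Q) (h : Cn p P) : Cn p Q := by
  rcases h with ⟨h1, h2, h3⟩ | ⟨h1, k, h2, h3, h4, h5⟩
  · refine Or.inl ⟨xs_equiv e h1, (Nat.card_congr e.toEquiv).symm.trans h2, fun y hy => ?_⟩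
    have h6 : (e.symm ⟨y, hy⟩) ^ p = 1 := Subtype.ext (h3 _ (e.symm ⟨y, hy⟩).2)
    have h7 : (⟨y, hy⟩ : Q) ^ p = 1 := e.symm.injective (by rw [map_pow, h6, map_one])
    exact congrArg Subtype.val h7
  · haveI h6 : Group.IsNilpotent Q := Group.nilpotent_of_mulEquiv e
    refine Or.inr ⟨h1, k, h2, (Nat.card_congr e.toEquiv).symm.trans h3, h6, ?_⟩
    rw [← h5]
    exact le_antisymm (Group.nilpotencyClass_le_of_surjective e.toMonoidHom e.surjective)
      (Group.nilpotencyClass_le_of_surjective e.symm.toMonoidHom e.symm.surjective)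

theorem iso_conj {G : Type*} [Group G] {x : G} (h : IsIsolated x) (g : G) :
    IsIsolated (g * x * g⁻¹) := fun k hk => by
  have h1 := h (g⁻¹ * k * g) (by
    have h2 := hk.eq
    show _ = _
    calc x * (g⁻¹ * k * g * x * (g⁻¹ * k * g)⁻¹)
        = g⁻¹ * (g * x * g⁻¹ * (k * (g * x * g⁻¹) * k⁻¹)) * g := by group
      _ = _ := by rw [h2]; group)
  calc k * (g * x * g⁻¹) * k⁻¹ = g * (g⁻¹ * k * g * x * (g⁻¹ * k * g)⁻¹) * g⁻¹ := by group
    _ = _ := by rw [h1]

variable {G : Type*} [Group G] [Finite G] {p : ℕ} [Fact p.Prime]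

theorem exU (hp : p ≠ 2) {R : Subgroup G} (hR : IsPGroup p R) (hnc : ¬ IsCyclic R) :
    ∃ U : Subgroup G, U ≤ R ∧ IsElementaryAbelian p U ∧ Nat.card U = p ^ 2 ∧
      R ≤ normalizer (U : Set G) := by
  obtain ⟨A, hA, h1, h2⟩ := S0126.result hp hR hnc
  exact ⟨A.map R.subtype, map_subtype_le A, ea_map h1 _,
    by rw [card_map_of_injective R.subtype_injective, h2], fun g hg =>
    le_normalizer_map _ ⟨⟨g, hg⟩, by rw [normalizer_eq_top]; trivial, rfl⟩⟩

theorem str (hp : p ≠ 2) (P : Sylow p G) (hn : (P : Subgroup G).Normal) (hr : PRankLE p 2 G)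
    {x : G} (hxP : x ∈ (P : Subgroup G)) (hx : orderOf x = p) (hz : x ∈ center G)
    (hc : (P : Subgroup G) ≤ commutator G) (hnc : ¬ IsCyclic (P : Subgroup G)) :
    Cn p (P : Subgroup G) := by
  obtain ⟨U, hUP, hU, cU, nU⟩ := exU hp P.2 hnc
  by_cases h : ∀ g : G, U.map (MulAut.conj g).toMonoidHom = U
  · have nU' : U.Normal := ⟨fun u hu g => (h g).le ⟨u, hu, rfl⟩⟩
    obtain ⟨e, a, b, h1, h2, h3, h4, h5, h6, h7, h8⟩ := sb hp P hn hr hxP hx hz hc U hUP hU cU nU'
      (mc hp hr (P.2.to_le inf_le_left) hU cU inf_le_right)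
    exact sc hp P hn hr hxP hx hz hc U hUP hU cU nU' e a b h1 h2 h3 h4 h5 h6 h7 h8
  · push Not at h
    obtain ⟨g, hg⟩ := h
    refine Or.inl (sa hp P hn hr hxP hx hz hc U _ hUP hU cU ?_ (ea_map hU _) ?_ nU ?_ hg.symm)
    · rintro _ ⟨u, hu, rfl⟩
      exact hn.conj_mem _ (hUP hu) g
    · rw [card_map_of_injective (MulAut.conj g).injective, cU]
    · intro a ha
      refine le_normalizer_map _ ⟨g⁻¹ * a * g, nU (by simpa using hn.conj_mem a ha g⁻¹), ?_⟩
      show g * (g⁻¹ * a * g) * g⁻¹ = a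
      group

theorem smp [IsSimpleGroup G] (hna : ¬ IsMulCommutative G) (hp : p ≠ 2) (hr : PRankLE p 2 G)
    (P : Sylow p G) {y : G} (hyP : y ∈ (P : Subgroup G)) (hy : orderOf y = p)
    (hiso : IsIsolated y) : Cn p (P : Subgroup G) := by
  have pp : p.Prime := Fact.out
  have hy1 : y ≠ 1 := fun h => pp.one_lt.ne (by rw [← hy, h, orderOf_one])
  have hk : ∃ k : ℕ, orderOf y = p ^ k := ⟨1, by rw [hy, pow_one]⟩
  have hnc : ¬ IsCyclic (P : Subgroup G) := fun hcy => by
    obtain ⟨Q, N, hN, hQ⟩ := (S2970.result y hk hiso).2 hy1 fun Q =>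
      isCyclic_of_surjective _ (P.equiv Q).surjective
    rcases hN.eq_bot_or_eq_top with rfl | rfl
    · have h1 : (Q : Subgroup G) = ⊤ := isComplement'_bot_left.1 hQ
      haveI : IsCyclic (Q : Subgroup G) := isCyclic_of_surjective _ (P.equiv Q).surjective
      haveI : IsCyclic G := isCyclic_of_surjective (Q : Subgroup G).subtype
        fun g => ⟨⟨g, h1 ▸ mem_top g⟩, rfl⟩
      exact hna inferInstance
    · have h1 : (Q : Subgroup G) = ⊥ := isComplement'_top_left.1 hQ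
      have h2 : P.equiv Q ⟨y, hyP⟩ = 1 := Subtype.ext (h1.le (P.equiv Q ⟨y, hyP⟩).2)
      exact hy1 (congrArg Subtype.val ((P.equiv Q).injective (h2.trans (map_one _).symm)))
  have ht : commutator G = ⊤ := by
    rcases (inferInstance : (commutator G).Normal).eq_bot_or_eq_top with h | h
    · refine absurd ⟨⟨fun a b => ?_⟩⟩ hna
      have : a * b * a⁻¹ * b⁻¹ ∈ _root_.commutator G :=
        commutator_mem_commutator (mem_top a) (mem_top b)
      rw [h, mem_bot] at this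
      calc a * b = a * b * a⁻¹ * b⁻¹ * (b * a) := by group
        _ = b * a := by rw [this, one_mul]
    · exact h
  have hN := (S2969.result y hk hiso).1 P P.2 hyP
  have hPN : (P : Subgroup G) ≤ ⁅normalizer ((P : Subgroup G) : Set G),
      normalizer ((P : Subgroup G) : Set G)⁆ := by
    by_contra hh
    obtain ⟨T, f, hf⟩ := S2807.result P (fun e => hh (by
      rw [ht, inf_top_eq] at e
      exact e.le.trans inf_le_right))
    obtain ⟨A, hA, h1, h2⟩ := S0126.result hp P.2 hnc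
    have hm := mc hp (rk_sub hr P) (P.2.to_subgroup (centralizer (A : Set (P : Subgroup G))))
      h1 h2 le_rfl
    have hz : ∀ g : (P : Subgroup G), g * ⟨y, hyP⟩ = ⟨y, hyP⟩ * g := fun g =>
      Subtype.ext (mem_centralizer_singleton_iff.1 (hN (le_normalizer g.2)))
    have ho : orderOf (⟨y, hyP⟩ : (P : Subgroup G)) = p :=
      (orderOf_coe (⟨y, hyP⟩ : (P : Subgroup G))).symm.trans hy
    by_cases h3 : p = 3
    · subst h3
      exact noW3 P.2 A h1 h2 hm T f hf
    · have h5 : 5 ≤ p := pp.five_le_of_ne_two_of_ne_three hp h3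
      exact noW5 h5 _ (idx P.2 h2 (memU (rk_sub hr P) h1 h2 (orderOf_dvd_iff_pow_eq_one.1 (by rw [ho]))
        fun g _ => hz g) ho hz) hm T f hf
  have hle : (P : Subgroup G) ≤ normalizer ((P : Subgroup G) : Set G) := le_normalizer
  refine cn_equiv (subgroupOfEquivOfLe hle) (str hp (P.subtype hle) normal_in_normalizer
    (rk_sub hr _) (x := ⟨y, hle hyP⟩) hyP
    ((orderOf_coe (⟨y, hle hyP⟩ : normalizer ((P : Subgroup G) : Set G))).symm.trans hy)
    (mem_center_iff.2 fun g => Subtype.ext (mem_centralizer_singleton_iff.1 (hN g.2))) ?_ ?_)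
  · intro g hg
    have h1 := hPN hg
    rw [← map_subtype_commutator] at h1
    obtain ⟨k, hk, e⟩ := h1
    exact (Subtype.ext e : k = g) ▸ hk
  · exact fun h => hnc ((subgroupOfEquivOfLe hle).isCyclic.1 h)

theorem main (hp : p ≠ 2) (hr : PRankLE p 2 G) {x : G} (hx : orderOf x = p)
    (hiso : IsIsolated x) (L : Subgroup G) [IsSimpleGroup L] (hna : ¬ IsMulCommutative L)
    (P : Sylow p L) :
    ((∀ g : G, g * x * g⁻¹ ∉ (P : Subgroup L).map L.subtype) ∧ IsCyclic (P : Subgroup L)) ∨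
      ((∃ g : G, g * x * g⁻¹ ∈ (P : Subgroup L).map L.subtype) ∧ Cn p (P : Subgroup L)) := by
  have ho : ∀ g : G, orderOf (g * x * g⁻¹) = p := fun g =>
    (orderOf_injective (MulAut.conj g).toMonoidHom (MulAut.conj g).injective x).trans hx
  by_cases h : ∃ g : G, g * x * g⁻¹ ∈ (P : Subgroup L).map L.subtype
  · refine Or.inr ⟨h, ?_⟩
    obtain ⟨g, y, hy, e⟩ := h
    have e' : (y : G) = g * x * g⁻¹ := e
    refine smp hna hp (rk_sub hr L) P hy ((orderOf_coe y).symm.trans (e' ▸ ho g)) fun k hk => ?_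
    have h1 := iso_conj hiso g
    rw [← e'] at h1
    exact Subtype.ext (h1 k (congrArg Subtype.val hk.eq))
  · push Not at h
    refine Or.inl ⟨h, ?_⟩
    by_contra hnc
    have hP : IsPGroup p ((P : Subgroup L).map L.subtype) := P.2.map _
    obtain ⟨U, hUP, hU, cU, -⟩ := exU hp hP fun hh => hnc (isCyclic_of_surjective _
      (equivMapOfInjective _ _ L.subtype_injective).symm.surjective)
    obtain ⟨S, hS⟩ := hP.exists_le_sylow
    obtain ⟨T, hT⟩ := (IsPGroup.of_card (p := p) (n := 1) (G := zpowers x)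
      (by rw [Nat.card_zpowers, hx, pow_one])).exists_le_sylow
    obtain ⟨g, rfl⟩ := MulAction.exists_smul_eq G T S
    have h1 : g * x * g⁻¹ ∈ ((g • T : Sylow p G) : Subgroup G) :=
      ⟨x, hT (mem_zpowers x), rfl⟩
    have h2 := (S2968.result _ _ h1 ⟨1, by rw [ho, pow_one]⟩ (iso_conj hiso g)).1.2
    exact h g (hUP (memU hr hU cU (orderOf_dvd_iff_pow_eq_one.1 (by rw [ho g]))
      (centralizer_le (fun u hu => hS (hUP hu)) h2)))

end Cfsg.Agent.IS
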